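import Mathlib.Data.Nat.Notation

/-!
# Words for the centraliser of an involution

Machine-generated data.
-/

set_option autoImplicit false
set_option maxRecDepth 100000

namespace CfsgLib.Sporadic.CosetCert.LyCent

/-- A word commuting with the involution. -/
def wW : List ℕ := [
  4, 2, 4, 0, 0, 0, 0, 5, 3, 5, 0, 0, 0, 0, 4, 2, 4, 0, 0, 0, 0, 5, 3, 5, 0, 0, 0, 0, 4, 2, 4, 9, 7, 10]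

/-- The exponent. -/
def wE : ℕ := 14

/-- Conjugating words and their inverses. -/
def wG9 : List (List ℕ × List ℕ) := [
  ([], []),
  ([
  5, 3, 5, 1, 1, 1, 1, 4, 2, 4, 1, 1, 1, 1, 5, 3, 5, 1, 1, 1, 1, 4, 2, 4, 1, 1, 1, 1, 5, 3, 5], [
  4, 2, 4, 0, 0, 0, 0, 5, 3, 5, 0, 0, 0, 0, 4, 2, 4, 0, 0, 0, 0, 5, 3, 5, 0, 0, 0, 0, 4, 2, 4]),
  ([
  5, 3, 5, 1, 1, 1, 1, 4, 2, 4, 1, 1, 1, 1, 5, 3, 5, 1, 1, 1, 1, 4, 2, 4, 1, 1, 1, 1, 5, 3, 5, 1], [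
  0, 4, 2, 4, 0, 0, 0, 0, 5, 3, 5, 0, 0, 0, 0, 4, 2, 4, 0, 0, 0, 0, 5, 3, 5, 0, 0, 0, 0, 4, 2, 4]),
  ([
  7, 5, 3, 5, 1, 1, 1, 1, 4, 2, 4, 1, 1, 1, 1, 5, 3, 5, 1, 1, 1, 1, 4, 2, 4, 1, 1, 1, 1, 5, 3, 5, 3, 6, 0], [
  1, 7, 2, 4, 2, 4, 0, 0, 0, 0, 5, 3, 5, 0, 0, 0, 0, 4, 2, 4, 0, 0, 0, 0, 5, 3, 5, 0, 0, 0, 0, 4, 2, 4, 6]),
  ([
  9, 7, 0, 5, 3, 5, 1, 1, 1, 1, 4, 2, 4, 1, 1, 1, 1, 5, 3, 5, 1, 1, 1, 1, 4, 2, 4, 1, 1, 1, 1, 5, 3, 5, 3,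
  6, 0], [
  1, 7, 2, 4, 2, 4, 0, 0, 0, 0, 5, 3, 5, 0, 0, 0, 0, 4, 2, 4, 0, 0, 0, 0, 5, 3, 5, 0, 0, 0, 0, 4, 2, 4, 1,
  6, 10]),
  ([
  3, 3, 7, 9, 7, 0, 5, 3, 5, 1, 1, 1, 1, 4, 2, 4, 1, 1, 1, 1, 5, 3, 5, 1, 1, 1, 1, 4, 2, 4, 1, 1, 1, 1, 5,
  3, 5, 1], [
  0, 4, 2, 4, 0, 0, 0, 0, 5, 3, 5, 0, 0, 0, 0, 4, 2, 4, 0, 0, 0, 0, 5, 3, 5, 0, 0, 0, 0, 4, 2, 4, 1, 6, 10,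
  6, 2, 2]),
  ([
  0, 3, 0, 3, 2, 9, 7, 0, 5, 3, 5, 1, 1, 1, 1, 4, 2, 4, 1, 1, 1, 1, 5, 3, 5, 1, 1, 1, 1, 4, 2, 4, 1, 1, 1,
  1, 5, 3, 5, 1], [
  0, 4, 2, 4, 0, 0, 0, 0, 5, 3, 5, 0, 0, 0, 0, 4, 2, 4, 0, 0, 0, 0, 5, 3, 5, 0, 0, 0, 0, 4, 2, 4, 1, 6, 10,
  3, 2, 1, 2, 1]),
  ([
  2, 9, 2, 3, 6, 0, 5, 3, 5, 1, 1, 1, 1, 4, 2, 4, 1, 1, 1, 1, 5, 3, 5, 1, 1, 1, 1, 4, 2, 4, 1, 1, 1, 1, 5,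
  3, 5, 3, 6, 0], [
  1, 7, 2, 4, 2, 4, 0, 0, 0, 0, 5, 3, 5, 0, 0, 0, 0, 4, 2, 4, 0, 0, 0, 0, 5, 3, 5, 0, 0, 0, 0, 4, 2, 4, 1,
  7, 2, 3, 10, 3]),
  ([
  4, 7, 5, 1, 1, 1, 1, 4, 6, 5, 1, 1, 1, 1, 4, 7, 5, 1, 1, 1, 1, 4, 6, 5, 1, 1, 1, 1, 4, 7, 5, 9, 7, 0, 5,
  3, 5, 1, 1, 1, 1, 4, 2, 4, 1, 1, 1, 1, 5, 3, 5, 1, 1, 1, 1, 4, 2, 4, 1, 1, 1, 1, 5, 3, 5, 1], [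
  0, 4, 2, 4, 0, 0, 0, 0, 5, 3, 5, 0, 0, 0, 0, 4, 2, 4, 0, 0, 0, 0, 5, 3, 5, 0, 0, 0, 0, 4, 2, 4, 1, 6, 10,
  4, 6, 5, 0, 0, 0, 0, 4, 7, 5, 0, 0, 0, 0, 4, 6, 5, 0, 0, 0, 0, 4, 7, 5, 0, 0, 0, 0, 4, 6, 5])]

/-- An involution of the subgroup. -/
def wJ : List ℕ := [
  0, 6]

end CfsgLib.Sporadic.CosetCert.LyCent
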